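import Cfsg.Agent.Lib.Helper35.ONNOrd.U0.Check
import Cfsg.Agent.Lib.Helper35.ONNOrd.U1.Check
import Cfsg.Agent.Lib.Helper35.ONNOrd.U2.Check
import Cfsg.Agent.Lib.Helper35.ONNOrd.U3.Check
import Cfsg.Agent.Lib.Helper35.ONNOrd.U4.Check
import Cfsg.Agent.Lib.Helper35.ONNOrd.Y0.Check
import Cfsg.Agent.Lib.Helper35.ONNOrd.X0.Fin
import Cfsg.Agent.Lib.Helper35.Simple4

namespace Cfsg.Agent.Lib.Helper35.ONNOrd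

open Cfsg.Agent.Lib.Helper35 Cfsg.Spor

set_option maxRecDepth 100000

noncomputable def I : PresIface ONN := coxIface ONN.edges ONN.extra PresONN.cc PresONN.extraL PresONN.R PresONN.allGens PresONN.hall PresONN.hOK PresONN.hextra
theorem up5 : Finite (wsub I.val ([] : List (List Nat))) ∧ Nat.card (wsub I.val ([] : List (List Nat))) ≤ 1 := upper_nil I.val
theorem up4 : Finite (wsub I.val [[5]]) ∧ Nat.card (wsub I.val [[5]]) ≤ 2 :=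
  upper_cons 2 1 2 up5 (fun hf => card_upper_step I.val I.inv I.hinv [[5]] ([] : List (List Nat)) U4.invL U4.R U4.S 2
    (by decide +kernel) (by decide +kernel)
    (fun b hb => I.hR _ ((by decide +kernel : ∀ b ∈ U4.R, expand [[5]] b ∈ PresONN.R) b hb))
    (by decide +kernel) U4.certData hf) (by decide +kernel)
theorem up3 : Finite (wsub I.val [[4], [5]]) ∧ Nat.card (wsub I.val [[4], [5]]) ≤ 6 :=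
  upper_cons 3 2 6 up4 (fun hf => card_upper_step I.val I.inv I.hinv [[4], [5]] [[5]] U3.invL U3.R U3.S 3
    (by decide +kernel) (by decide +kernel)
    (fun b hb => I.hR _ ((by decide +kernel : ∀ b ∈ U3.R, expand [[4], [5]] b ∈ PresONN.R) b hb))
    (by decide +kernel) U3.certData hf) (by decide +kernel)
theorem up2 : Finite (wsub I.val [[3], [4], [5]]) ∧ Nat.card (wsub I.val [[3], [4], [5]]) ≤ 24 :=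
  upper_cons 4 6 24 up3 (fun hf => card_upper_step I.val I.inv I.hinv [[3], [4], [5]] [[4], [5]] U2.invL U2.R U2.S 4
    (by decide +kernel) (by decide +kernel)
    (fun b hb => I.hR _ ((by decide +kernel : ∀ b ∈ U2.R, expand [[3], [4], [5]] b ∈ PresONN.R) b hb))
    (by decide +kernel) U2.certData hf) (by decide +kernel)
theorem up1 : Finite (wsub I.val [[0], [1], [3], [4], [5]]) ∧ Nat.card (wsub I.val [[0], [1], [3], [4], [5]]) ≤ 72 :=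
  upper_cons 3 24 72 up2 (fun hf => card_upper_step I.val I.inv I.hinv [[0], [1], [3], [4], [5]] [[3], [4], [5]] U1.invL U1.R U1.S 3
    (by decide +kernel) (by decide +kernel)
    (fun b hb => I.hR _ ((by decide +kernel : ∀ b ∈ U1.R, expand [[0], [1], [3], [4], [5]] b ∈ PresONN.R) b hb))
    (by decide +kernel) U1.certData hf) (by decide +kernel)
theorem up0 : Finite (wsub I.val [[0], [1], [2], [3], [4], [5]]) ∧ Nat.card (wsub I.val [[0], [1], [2], [3], [4], [5]]) ≤ 1876896 :=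
  upper_cons 26068 72 1876896 up1 (fun hf => card_upper_step I.val I.inv I.hinv [[0], [1], [2], [3], [4], [5]] [[0], [1], [3], [4], [5]] PresONN.cc.invL PresONN.R U0.S 26068
    (by decide +kernel) (by decide +kernel)
    (fun b hb => I.hR _ ((by decide +kernel : ∀ b ∈ PresONN.R, expand [[0], [1], [2], [3], [4], [5]] b ∈ PresONN.R) b hb))
    (by decide +kernel) U0.certData hf) (by decide +kernel)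
noncomputable abbrev pv2 := ONN57.permData.pv
theorem lo4 : 1 ≤ Nat.card (wsub pv2 ([] : List (List Nat))) := lower_nil pv2
theorem lo3 : 12 ≤ Nat.card (wsub pv2 [[4, 5, 3, 2, 3, 1, 2, 4, 5, 3, 4, 2, 0, 3, 2, 3, 5, 4], [4, 5, 3, 2, 3, 1, 2, 4, 3, 5, 4, 2, 0, 3, 2, 3, 5, 4], [1, 2, 0, 3, 2, 1, 4, 0, 2, 3, 1, 2, 0, 4, 1, 2, 0, 3, 2, 1, 1, 2, 0, 3, 2, 1], [0, 2, 3, 1, 2, 0, 0, 2, 3, 1, 2, 0, 4, 1, 2, 0, 3, 2, 1, 4, 0, 2, 3, 1, 2, 0], [0, 2, 3, 1, 2, 0, 4, 1, 2, 0, 3, 2, 1, 5, 3, 2, 3, 1, 2, 4, 5, 3, 4, 2, 0, 3, 2, 3, 5, 1, 2, 0, 3, 2, 1, 4, 0, 2, 3, 1, 2, 0, 4], [4, 1, 2, 0, 3, 2, 1, 4, 0, 2, 3, 1, 2, 0, 5, 3, 2, 3, 1, 2, 4, 3, 5, 4, 2, 0, 3, 2, 3, 5, 0, 2, 3, 1, 2, 0, 4, 1, 2, 0, 3, 2, 1]]) :=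
  lower_cons 12 1 12 lo4 (card_lower_step pv2 [[4, 5, 3, 2, 3, 1, 2, 4, 5, 3, 4, 2, 0, 3, 2, 3, 5, 4], [4, 5, 3, 2, 3, 1, 2, 4, 3, 5, 4, 2, 0, 3, 2, 3, 5, 4], [1, 2, 0, 3, 2, 1, 4, 0, 2, 3, 1, 2, 0, 4, 1, 2, 0, 3, 2, 1, 1, 2, 0, 3, 2, 1], [0, 2, 3, 1, 2, 0, 0, 2, 3, 1, 2, 0, 4, 1, 2, 0, 3, 2, 1, 4, 0, 2, 3, 1, 2, 0], [0, 2, 3, 1, 2, 0, 4, 1, 2, 0, 3, 2, 1, 5, 3, 2, 3, 1, 2, 4, 5, 3, 4, 2, 0, 3, 2, 3, 5, 1, 2, 0, 3, 2, 1, 4, 0, 2, 3, 1, 2, 0, 4], [4, 1, 2, 0, 3, 2, 1, 4, 0, 2, 3, 1, 2, 0, 5, 3, 2, 3, 1, 2, 4, 3, 5, 4, 2, 0, 3, 2, 3, 5, 0, 2, 3, 1, 2, 0, 4, 1, 2, 0, 3, 2, 1]] ([] : List (List Nat)) (by decide +kernel) 56 (MonoidHom.id _) ONN57.pt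
    (fun s hs i => walk_of_hom pv2 ONN57.permData (MonoidHom.id _) (fun _ => rfl) s ((by decide +kernel : ∀ s ∈ ([[4, 5, 3, 2, 3, 1, 2, 4, 5, 3, 4, 2, 0, 3, 2, 3, 5, 4], [4, 5, 3, 2, 3, 1, 2, 4, 3, 5, 4, 2, 0, 3, 2, 3, 5, 4], [1, 2, 0, 3, 2, 1, 4, 0, 2, 3, 1, 2, 0, 4, 1, 2, 0, 3, 2, 1, 1, 2, 0, 3, 2, 1], [0, 2, 3, 1, 2, 0, 0, 2, 3, 1, 2, 0, 4, 1, 2, 0, 3, 2, 1, 4, 0, 2, 3, 1, 2, 0], [0, 2, 3, 1, 2, 0, 4, 1, 2, 0, 3, 2, 1, 5, 3, 2, 3, 1, 2, 4, 5, 3, 4, 2, 0, 3, 2, 3, 5, 1, 2, 0, 3, 2, 1, 4, 0, 2, 3, 1, 2, 0, 4], [4, 1, 2, 0, 3, 2, 1, 4, 0, 2, 3, 1, 2, 0, 5, 3, 2, 3, 1, 2, 4, 3, 5, 4, 2, 0, 3, 2, 3, 5, 0, 2, 3, 1, 2, 0, 4, 1, 2, 0, 3, 2, 1]] : List (List Nat)), ∀ c ∈ s, c < PresONN.cc.C) s hs) i)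
    3 12 (by decide +kernel) X0.reach3 X0.fix3) (by decide +kernel)
theorem lo2 : 588 ≤ Nat.card (wsub pv2 [[4], [0, 2, 3, 1, 2, 0], [1, 2, 0, 3, 2, 1], [5, 3, 2, 3, 1, 2, 4, 5, 3, 4, 2, 0, 3, 2, 3, 5], [5, 3, 2, 3, 1, 2, 4, 3, 5, 4, 2, 0, 3, 2, 3, 5]]) := by
  have h := lower_cons 49 12 588 lo3 (card_lower_step pv2 [[4], [0, 2, 3, 1, 2, 0], [1, 2, 0, 3, 2, 1], [5, 3, 2, 3, 1, 2, 4, 5, 3, 4, 2, 0, 3, 2, 3, 5], [5, 3, 2, 3, 1, 2, 4, 3, 5, 4, 2, 0, 3, 2, 3, 5], [4, 5, 3, 2, 3, 1, 2, 4, 5, 3, 4, 2, 0, 3, 2, 3, 5, 4], [4, 5, 3, 2, 3, 1, 2, 4, 3, 5, 4, 2, 0, 3, 2, 3, 5, 4], [1, 2, 0, 3, 2, 1, 4, 0, 2, 3, 1, 2, 0, 4, 1, 2, 0, 3, 2, 1, 1, 2, 0, 3, 2, 1], [0, 2, 3, 1, 2, 0, 0, 2, 3, 1, 2, 0, 4, 1, 2, 0, 3, 2, 1, 4, 0, 2, 3, 1, 2, 0], [0, 2, 3, 1, 2, 0, 4,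 1, 2, 0, 3, 2, 1, 5, 3, 2, 3, 1, 2, 4, 5, 3, 4, 2, 0, 3, 2, 3, 5, 1, 2, 0, 3, 2, 1, 4, 0, 2, 3, 1, 2, 0, 4], [4, 1, 2, 0, 3, 2, 1, 4, 0, 2, 3, 1, 2, 0, 5, 3, 2, 3, 1, 2, 4, 3, 5, 4, 2, 0, 3, 2, 3, 5, 0, 2, 3, 1, 2, 0, 4, 1, 2, 0, 3, 2, 1]] [[4, 5, 3, 2, 3, 1, 2, 4, 5, 3, 4, 2, 0, 3, 2, 3, 5, 4], [4, 5, 3, 2, 3, 1, 2, 4, 3, 5, 4, 2, 0, 3, 2, 3, 5, 4], [1, 2, 0, 3, 2, 1, 4, 0, 2, 3, 1, 2, 0, 4, 1, 2, 0, 3, 2, 1, 1, 2, 0, 3, 2, 1], [0, 2, 3, 1, 2, 0, 0, 2, 3, 1, 2, 0, 4, 1, 2, 0, 3, 2, 1, 4, 0, 2, 3, 1, 2, 0], [0, 2, 3, 1, 2, 0, 4, 1, 2, 0, 3, 2, 1, 5, 3, 2, 3, 1, 2, 4, 5, 3, 4, 2, 0, 3, 2, 3, 5, 1, 2, 0, 3, 2, 1, 4, 0, 2, 3, 1, 2, 0, 4], [4, 1, 2, 0, 3, 2, 1, 4, 0, 2, 3, 1, 2, 0, 5, 3, 2, 3, 1, 2, 4, 3, 5, 4, 2, 0, 3, 2, 3, 5, 0, 2, 3, 1, 2, 0, 4, 1,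 2, 0, 3, 2, 1]] (by decide +kernel) 56 (MonoidHom.id _) ONN57.pt
    (fun s hs i => walk_of_hom pv2 ONN57.permData (MonoidHom.id _) (fun _ => rfl) s ((by decide +kernel : ∀ s ∈ ([[4], [0, 2, 3, 1, 2, 0], [1, 2, 0, 3, 2, 1], [5, 3, 2, 3, 1, 2, 4, 5, 3, 4, 2, 0, 3, 2, 3, 5], [5, 3, 2, 3, 1, 2, 4, 3, 5, 4, 2, 0, 3, 2, 3, 5], [4, 5, 3, 2, 3, 1, 2, 4, 5, 3, 4, 2, 0, 3, 2, 3, 5, 4], [4, 5, 3, 2, 3, 1, 2, 4, 3, 5, 4, 2, 0, 3, 2, 3, 5, 4], [1, 2, 0, 3, 2, 1, 4, 0, 2, 3, 1, 2, 0, 4, 1, 2, 0, 3, 2, 1, 1, 2, 0, 3, 2, 1], [0, 2, 3, 1, 2, 0, 0, 2, 3, 1, 2, 0, 4, 1, 2, 0, 3, 2, 1, 4, 0, 2, 3, 1, 2, 0], [0, 2, 3, 1, 2, 0, 4, 1, 2, 0, 3, 2, 1, 5, 3, 2, 3, 1, 2, 4, 5, 3, 4, 2, 0, 3, 2, 3, 5, 1, 2, 0, 3, 2, 1, 4, 0, 2, 3, 1, 2, 0, 4], [4, 1, 2, 0, 3, 2, 1, 4, 0, 2,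 3, 1, 2, 0, 5, 3, 2, 3, 1, 2, 4, 3, 5, 4, 2, 0, 3, 2, 3, 5, 0, 2, 3, 1, 2, 0, 4, 1, 2, 0, 3, 2, 1]] : List (List Nat)), ∀ c ∈ s, c < PresONN.cc.C) s hs) i)
    2 49 (by decide +kernel) X0.reach2 X0.fix2) (by decide +kernel)
  have e : wsub pv2 [[4], [0, 2, 3, 1, 2, 0], [1, 2, 0, 3, 2, 1], [5, 3, 2, 3, 1, 2, 4, 5, 3, 4, 2, 0, 3, 2, 3, 5], [5, 3, 2, 3, 1, 2, 4, 3, 5, 4, 2, 0, 3, 2, 3, 5], [4, 5, 3, 2, 3, 1, 2, 4, 5, 3, 4, 2, 0, 3, 2, 3, 5, 4], [4, 5, 3, 2, 3, 1, 2, 4, 3, 5, 4, 2, 0, 3, 2, 3, 5, 4], [1, 2, 0, 3, 2, 1, 4, 0, 2, 3, 1, 2, 0, 4, 1, 2, 0, 3, 2, 1, 1, 2, 0, 3, 2, 1], [0, 2, 3, 1, 2, 0, 0, 2, 3, 1, 2, 0, 4, 1, 2, 0, 3, 2, 1, 4, 0, 2, 3, 1, 2, 0], [0, 2, 3, 1, 2, 0, 4, 1, 2, 0, 3, 2, 1, 5, 3, 2, 3, 1, 2, 4, 5, 3, 4, 2, 0, 3, 2, 3, 5, 1, 2, 0,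 3, 2, 1, 4, 0, 2, 3, 1, 2, 0, 4], [4, 1, 2, 0, 3, 2, 1, 4, 0, 2, 3, 1, 2, 0, 5, 3, 2, 3, 1, 2, 4, 3, 5, 4, 2, 0, 3, 2, 3, 5, 0, 2, 3, 1, 2, 0, 4, 1, 2, 0, 3, 2, 1]] = wsub pv2 [[4], [0, 2, 3, 1, 2, 0], [1, 2, 0, 3, 2, 1], [5, 3, 2, 3, 1, 2, 4, 5, 3, 4, 2, 0, 3, 2, 3, 5], [5, 3, 2, 3, 1, 2, 4, 3, 5, 4, 2, 0, 3, 2, 3, 5]] := wsub_append_of_factors pv2 [[4], [0, 2, 3, 1, 2, 0], [1, 2, 0, 3, 2, 1], [5, 3, 2, 3, 1, 2, 4, 5, 3, 4, 2, 0, 3, 2, 3, 5], [5, 3, 2, 3, 1, 2, 4, 3, 5, 4, 2, 0, 3, 2, 3, 5]] [[4, 5, 3, 2, 3, 1, 2, 4, 5, 3, 4, 2, 0, 3, 2, 3, 5, 4], [4, 5, 3, 2, 3, 1, 2, 4, 3, 5, 4, 2, 0, 3, 2, 3, 5, 4], [1, 2, 0, 3, 2, 1, 4, 0, 2, 3, 1, 2, 0, 4, 1, 2, 0, 3, 2, 1, 1, 2, 0, 3, 2, 1], [0, 2, 3, 1, 2, 0, 0, 2, 3, 1, 2, 0, 4, 1, 2, 0, 3, 2, 1, 4, 0, 2,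 3, 1, 2, 0], [0, 2, 3, 1, 2, 0, 4, 1, 2, 0, 3, 2, 1, 5, 3, 2, 3, 1, 2, 4, 5, 3, 4, 2, 0, 3, 2, 3, 5, 1, 2, 0, 3, 2, 1, 4, 0, 2, 3, 1, 2, 0, 4], [4, 1, 2, 0, 3, 2, 1, 4, 0, 2, 3, 1, 2, 0, 5, 3, 2, 3, 1, 2, 4, 3, 5, 4, 2, 0, 3, 2, 3, 5, 0, 2, 3, 1, 2, 0, 4, 1, 2, 0, 3, 2, 1]] [[[4], [5, 3, 2, 3, 1, 2, 4, 5, 3, 4, 2, 0, 3, 2, 3, 5], [4]], [[4], [5, 3, 2, 3, 1, 2, 4, 3, 5, 4, 2, 0, 3, 2, 3, 5], [4]], [[1, 2, 0, 3, 2, 1], [4], [0, 2, 3, 1, 2, 0], [4], [1, 2, 0, 3, 2, 1], [1, 2, 0, 3, 2, 1]], [[0, 2, 3, 1, 2, 0], [0, 2, 3, 1, 2, 0], [4], [1, 2, 0, 3, 2, 1], [4], [0, 2, 3, 1, 2, 0]], [[0, 2, 3, 1, 2, 0], [4], [1, 2, 0, 3, 2, 1], [5, 3, 2, 3, 1, 2, 4, 5, 3, 4, 2, 0, 3, 2, 3, 5], [1, 2, 0, 3, 2, 1], [4], [0, 2, 3, 1, 2, 0], [4]], [[4], [1, 2, 0, 3, 2, 1], [4],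 [0, 2, 3, 1, 2, 0], [5, 3, 2, 3, 1, 2, 4, 3, 5, 4, 2, 0, 3, 2, 3, 5], [0, 2, 3, 1, 2, 0], [4], [1, 2, 0, 3, 2, 1]]] (by decide +kernel) (by decide +kernel)
  rwa [e] at h
theorem lo1 : 32928 ≤ Nat.card (wsub pv2 [[0], [1], [4], [5, 3], [3, 5], [2, 3, 1, 2], [2, 0, 3, 2]]) := by
  have h := lower_cons 56 588 32928 lo2 (card_lower_step pv2 [[0], [1], [4], [5, 3], [3, 5], [2, 3, 1, 2], [2, 0, 3, 2], [4], [0, 2, 3, 1, 2, 0], [1, 2, 0, 3, 2, 1], [5, 3, 2, 3, 1, 2, 4, 5, 3, 4, 2, 0, 3, 2, 3, 5], [5, 3, 2, 3, 1, 2, 4, 3, 5, 4, 2, 0, 3, 2, 3, 5]] [[4], [0, 2, 3, 1, 2, 0], [1, 2, 0, 3, 2, 1], [5, 3, 2, 3, 1, 2, 4, 5, 3, 4, 2, 0, 3, 2, 3, 5], [5, 3, 2, 3, 1, 2, 4, 3, 5, 4, 2, 0, 3, 2, 3, 5]] (by decide +kernel) 56 (MonoidHom.id _) ONN57.pt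
    (fun s hs i => walk_of_hom pv2 ONN57.permData (MonoidHom.id _) (fun _ => rfl) s ((by decide +kernel : ∀ s ∈ ([[0], [1], [4], [5, 3], [3, 5], [2, 3, 1, 2], [2, 0, 3, 2], [4], [0, 2, 3, 1, 2, 0], [1, 2, 0, 3, 2, 1], [5, 3, 2, 3, 1, 2, 4, 5, 3, 4, 2, 0, 3, 2, 3, 5], [5, 3, 2, 3, 1, 2, 4, 3, 5, 4, 2, 0, 3, 2, 3, 5]] : List (List Nat)), ∀ c ∈ s, c < PresONN.cc.C) s hs) i)
    1 56 (by decide +kernel) X0.reach1 X0.fix1) (by decide +kernel)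
  have e : wsub pv2 [[0], [1], [4], [5, 3], [3, 5], [2, 3, 1, 2], [2, 0, 3, 2], [4], [0, 2, 3, 1, 2, 0], [1, 2, 0, 3, 2, 1], [5, 3, 2, 3, 1, 2, 4, 5, 3, 4, 2, 0, 3, 2, 3, 5], [5, 3, 2, 3, 1, 2, 4, 3, 5, 4, 2, 0, 3, 2, 3, 5]] = wsub pv2 [[0], [1], [4], [5, 3], [3, 5], [2, 3, 1, 2], [2, 0, 3, 2]] := wsub_append_of_factors pv2 [[0], [1], [4], [5, 3], [3, 5], [2, 3, 1, 2], [2, 0, 3, 2]] [[4], [0, 2, 3, 1, 2, 0], [1, 2, 0, 3, 2, 1], [5, 3, 2, 3, 1, 2, 4, 5, 3, 4, 2, 0, 3, 2, 3, 5], [5, 3, 2, 3, 1, 2, 4, 3, 5, 4, 2, 0, 3, 2, 3, 5]] [[[4]], [[0], [2, 3, 1, 2], [0]], [[1], [2, 0, 3, 2], [1]], [[5, 3], [2, 3, 1, 2], [4], [5, 3], [4], [2, 0, 3, 2], [3, 5]], [[5, 3], [2, 3, 1, 2], [4], [3, 5], [4], [2, 0, 3, 2], [3, 5]]] (by decide +kernel) (by decide +kernel)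
  rwa [e] at h
theorem lo0 : 1876896 ≤ Nat.card (wsub pv2 [[0], [1], [2], [3], [4], [5]]) := by
  have h := lower_cons 57 32928 1876896 lo1 (card_lower_step pv2 [[0], [1], [2], [3], [4], [5], [0], [1], [4], [5, 3], [3, 5], [2, 3, 1, 2], [2, 0, 3, 2]] [[0], [1], [4], [5, 3], [3, 5], [2, 3, 1, 2], [2, 0, 3, 2]] (by decide +kernel) 56 (MonoidHom.id _) ONN57.pt
    (fun s hs i => walk_of_hom pv2 ONN57.permData (MonoidHom.id _) (fun _ => rfl) s ((by decide +kernel : ∀ s ∈ ([[0], [1], [2], [3], [4], [5], [0], [1], [4], [5, 3], [3, 5], [2, 3, 1, 2], [2, 0, 3, 2]] : List (List Nat)), ∀ c ∈ s, c < PresONN.cc.C) s hs) i)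
    0 57 (by decide +kernel) X0.reach0 X0.fix0) (by decide +kernel)
  have e : wsub pv2 [[0], [1], [2], [3], [4], [5], [0], [1], [4], [5, 3], [3, 5], [2, 3, 1, 2], [2, 0, 3, 2]] = wsub pv2 [[0], [1], [2], [3], [4], [5]] := wsub_append_of_letters pv2 [[0], [1], [2], [3], [4], [5]] [[0], [1], [4], [5, 3], [3, 5], [2, 3, 1, 2], [2, 0, 3, 2]] (by decide +kernel)
  rwa [e] at h
def cnt0 : Nat → Nat := fun k => ([1, 56] : List Nat).getD k 0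
noncomputable def prim0 : PrimData ONN57.permData 1876896 where
  O := ONN57.orbData
  r := 2
  cnt := cnt0
  hcnt := by
    intro k hk
    interval_cases k
    exacts [ONN57.ocnt0, ONN57.ocnt1]
  hsum := by decide +kernel
  hnum := by decide +kernel
  p := 19
  hp := by norm_num
  yw := Y0.yw
  hyC := by decide +kernel
  hnd := by decide +kernel
  col := Y0.certData
theorem main : IsSimpleGroup ONN ∧ Nat.card ONN = 1876896 :=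
  simple_of_one I ONN57.permData 1876896 (by decide +kernel) up0 lo0 prim0 X0.yfix0

end Cfsg.Agent.Lib.Helper35.ONNOrd
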